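import Cfsg.Agent.H471.EP.Reg
import Cfsg.Agent.H436.B7
import Cfsg.Agent.H892.EP.Rows
import Cfsg.Agent.H711.BabyReal
import Cfsg.Agent.H954.DR.CentB

/-!
# S4929, TEAM EVP: the row `B` (helper471)

`|B| = 2^41 * 3^13 * 5^6 * 7^2 * 11 * 13 * 17 * 19 * 23 * 31 * 47`, permutation character
`1 + 96255 + 9458750 + 4275362520 + 9287037474` of degree `13571955000 = 2^3 * 3^4 * 5^4 * 23 * 31 * 47`.

* `p = 3, 5, 23, 31`: the sum of the degrees of the constituents in the principal block is divisible by `p`, and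
  neither `1` nor `1 + 96255` is;
* `p = 7`: this sum is congruent to `2` modulo 7, and neither `1` nor `1 + 96255` is;
* `p = 11, 13, 17, 19`: cyclic Sylow subgroups and real elements of order `p`;
* `p = 47`: `|C(x)| = 47`, and a character of even degree prime to 47 (hypothesis of `row_b_of`).
-/

set_option autoImplicit false
set_option maxRecDepth 100000

namespace Cfsg.Agent.H471.EP.B

open Cfsg Cfsg.Agent.Characters.Core Cfsg.Agent.H995.IMB Cfsg.Agent.H816.IMEig Cfsg.Agent.H995.BSch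
open Cfsg.Agent.H145.BR Cfsg.Agent.H493.RatB Cfsg.Agent.BabyM.Inst Cfsg.Agent.H630.RatB Cfsg.Agent.BabyM.Model
open Cfsg.Agent.H892.EP Cfsg.Agent.H471.EP
open Subgroup (centralizer zpowers mem_centralizer_singleton_iff mem_centralizer_iff)
open scoped BigOperators

/-- the degrees of the constituents -/
def dg : Fin 4 → ℕ := ![96255, 9458750, 4275362520, 9287037474]

instance : Finite M.G := BabyM.Instance.all.finite_G

theorem card_XM : Nat.card (X M) = 13571955000 := card_X BabyM.Instance.all BabyM.Instance.tr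

instance : Finite (X M) := Nat.finite_of_card_ne_zero (by rw [card_XM]; norm_num)

theorem hcol : Col M.G (X M) (Fin 5) (cX M) 0 := (Cfsg.Agent.H995.BSchVal.sch).isCol BabyM.Instance.all BabyM.Instance.tr

instance : MulAction.IsPretransitive M.G (X M) := ⟨hcol.exists_smul⟩

theorem exists_constituents : ∃ χ : Fin 4 → IrrCharacter M.G, (∀ i, charDegree (χ i : M.G → ℂ) = dg i) ∧
    ∀ g : M.G, permC M.G (X M) g = 1 + ∑ i, (χ i : M.G → ℂ) g := by
  obtain ⟨z₀, h1, h2⟩ := exists_z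
  have hX := card_XM
  obtain ⟨χ, hd, hr, hs⟩ := permC_of_scheme hcol (x₀ := QuotientGroup.mk 1) (z₀ := z₀) h2
    (m := 4) ![228735, 50895, 1935, -945] ![w0, w1, w2, w3] (fun i => by
      rw [h1]
      fin_cases i
      · exact eig0
      · exact eig1
      · exact eig2
      · exact eig3) rat_w dg
    (fun i => by
      rw [hX]
      fin_cases i <;> simp only [Fin.sum_univ_five] <;> simp [t, w0, w1, w2, w3, dg] <;> norm_num) (fun u => by
      rw [hX]
      fin_cases u <;> simp [Fin.sum_univ_succ, w0, w1, w2, w3, dg] <;> norm_num)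
  exact ⟨χ, fun i => Cfsg.Agent.Blocks.Basic.charDegree_of_eq (hd i), hs⟩

/-- only odd degrees: the sum is `1` or `96256` -/
theorem degSum_odd {I : Ideal AlgInt} {χ : Fin 4 → IrrCharacter M.G} (hd : ∀ i, charDegree (χ i : M.G → ℂ) = dg i)
    (h : ∀ i, χ i ∈ principalBlock I M.G → ¬ 2 ∣ charDegree (χ i : M.G → ℂ)) :
    degSum I χ = 1 ∨ degSum I χ = 96256 := by
  classical
  unfold degSum
  simp only [hd] at h ⊢
  rw [Fin.sum_univ_four]
  have h1 := h 1
  have h2 := h 2
  have h3 := h 3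
  simp only [dg, Matrix.cons_val_zero, Matrix.cons_val_one, Matrix.cons_val] at h1 h2 h3 ⊢
  have e1 : χ 1 ∉ principalBlock I M.G := fun hc => h1 hc (by norm_num)
  have e2 : χ 2 ∉ principalBlock I M.G := fun hc => h2 hc (by norm_num)
  have e3 : χ 3 ∉ principalBlock I M.G := fun hc => h3 hc (by norm_num)
  rw [if_neg e1, if_neg e2, if_neg e3]
  split_ifs
  · right; norm_num
  · left; norm_num

/-- **`p = 3, 5, 23, 31`** -/
theorem perm {p : ℕ} [Fact p.Prime] (hp : p ∣ 13571955000) (h1 : ¬ p ∣ 96256) : EvAt p M.G := by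
  intro I hI
  obtain ⟨χ, hd, hs⟩ := exists_constituents
  by_contra hcon
  push Not at hcon
  have h2 := dvd_of_dvd hI (X := X M) χ hs (by rw [card_XM]; exact hp)
  rcases degSum_odd hd fun i hi => hcon (χ i) hi with h3 | h3
  · rw [h3] at h2
    exact (Fact.out : p.Prime).one_lt.ne' (Nat.dvd_one.1 h2)
  · rw [h3] at h2
    exact h1 h2

/-- **`p = 7`** -/
theorem seven : EvAt 7 M.G := by
  have hp : Fact (Nat.Prime 7) := ⟨by norm_num⟩
  intro I hI
  obtain ⟨χ, hd, hs⟩ := exists_constituents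
  by_contra hcon
  push Not at hcon
  have hB : Spor.IsoB M.G := ⟨Cfsg.Agent.BM.KHAll.iso.symm⟩
  have hX := card_XM
  obtain ⟨P, hP⟩ := Sylow.exists_subgroup_card_pow_prime (G := M.G) 7 (n := 2) (by
    rw [BabyM.Instance.all.card_G]; norm_num)
  have hPp : IsPGroup 7 P := IsPGroup.of_card hP
  have hP' : Nat.card P = 49 := by rw [hP]; norm_num
  obtain ⟨x, hx⟩ := hPp.nonempty_fixed_point_of_prime_not_dvd_card (X M) (by rw [hX]; norm_num)
  have hfix : ∀ u ∈ P, u • x = x := fun u hu => hx ⟨u, hu⟩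
  obtain ⟨c, rfl⟩ := exists_mk x
  let t₀ : M.G := ⟨M.t₀, BabyM.Instance.all.C_le_G BabyM.Instance.all.t₀_C⟩
  have hst : ∀ g : M.G, g • (QuotientGroup.mk c : X M) = QuotientGroup.mk c ↔
      g * (c * t₀ * c⁻¹) = (c * t₀ * c⁻¹) * g := by
    intro g
    have h3 : g • (QuotientGroup.mk c : X M) = QuotientGroup.mk (g * c) := rfl
    rw [h3, QuotientGroup.eq, HH_eq BabyM.Instance.all BabyM.Instance.tr, mem_centralizer_singleton_iff]
    constructor
    · intro h
      have h4 : (g * c)⁻¹ * c = c⁻¹ * g⁻¹ * c := by group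
      rw [h4] at h
      have h5 : g⁻¹ * (c * t₀ * c⁻¹) = (c * t₀ * c⁻¹) * g⁻¹ := by
        calc g⁻¹ * (c * t₀ * c⁻¹) = c * (c⁻¹ * g⁻¹ * c * t₀) * c⁻¹ := by group
          _ = c * (t₀ * (c⁻¹ * g⁻¹ * c)) * c⁻¹ := by rw [h]
          _ = _ := by group
      calc g * (c * t₀ * c⁻¹) = g * ((c * t₀ * c⁻¹) * g⁻¹) * g := by group
        _ = g * (g⁻¹ * (c * t₀ * c⁻¹)) * g := by rw [h5]
        _ = _ := by group
    · intro h
      have h4 : (g * c)⁻¹ * c = c⁻¹ * g⁻¹ * c := by group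
      rw [h4]
      calc c⁻¹ * g⁻¹ * c * t₀ = c⁻¹ * g⁻¹ * ((c * t₀ * c⁻¹) * g) * g⁻¹ * c := by group
        _ = c⁻¹ * g⁻¹ * (g * (c * t₀ * c⁻¹)) * g⁻¹ * c := by rw [h]
        _ = t₀ * (c⁻¹ * g⁻¹ * c) := by group
  have ha : c * t₀ * c⁻¹ ∈ centralizer (P : Set M.G) :=
    mem_centralizer_iff.2 fun u hu => (hst u).1 (hfix u hu)
  have h2 := congr_of_fix hI (X := X M) χ hs hPp (x := QuotientGroup.mk c) hfix fun g hg hg7 => (hst g).2
    (H436.B7.comm_of_dvd hP' (H436.B7.card_cent hB hP') hg ha hg7)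
  rw [hX] at h2
  rcases degSum_odd hd fun i hi => hcon (χ i) hi with h3 | h3
  · rw [h3] at h2
    revert h2
    decide
  · rw [h3] at h2
    revert h2
    decide

theorem cyc {r : ℕ} [Fact r.Prime] {n : ℕ} (hn : Nat.card M.G = r * n) (hr : n % r ≠ 0)
    (P : Sylow r M.G) : IsCyclic (P : Subgroup M.G) := by
  have hrp : r.Prime := Fact.out
  refine isCyclic_of_prime_card (p := r) ?_
  rw [Sylow.card_eq_multiplicity, hn, Nat.factorization_mul hrp.ne_zero (fun h => by simp [h] at hr),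
    Finsupp.add_apply, hrp.factorization_self, Nat.factorization_eq_zero_of_not_dvd (fun h => hr (Nat.mod_eq_zero_of_dvd h))]
  norm_num

/-- cyclic Sylow subgroups and a real element -/
theorem real {p : ℕ} [Fact p.Prime] (hp2 : p ≠ 2) {n : ℕ} (hn : 4154781481226426191177580544000000 = p * n)
    (hr : n % p ≠ 0) (h : ∃ x : M.G, p ∣ orderOf x ∧ IsConj x x⁻¹) : EvAt p M.G := by
  obtain ⟨x, h1, h2⟩ := h
  obtain ⟨k, hk⟩ := h1
  have hx0 : 0 < orderOf x := orderOf_pos x
  have hk0 : k ≠ 0 := by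
    rintro rfl
    omega
  have ho : orderOf (x ^ k) = p := by
    rw [orderOf_pow_of_dvd hk0 ⟨p, by rw [hk, mul_comm]⟩, hk, Nat.mul_div_cancel _ (Nat.pos_of_ne_zero hk0)]
  refine evAt_of_real_cyclic hp2 (cyc (n := n) (by rw [← hn]; exact BabyM.Instance.all.card_G) hr) ho ?_
  obtain ⟨c, hc⟩ := isConj_iff.1 h2
  exact isConj_iff.2 ⟨c, by rw [← conj_pow, hc, inv_pow]⟩

/-- **`p = 47`**, from a character of even degree prime to 47 -/
theorem fortyseven (h : ∃ χ : IrrCharacter M.G, 2 ∣ charDegree (χ : M.G → ℂ) ∧ ¬ 47 ∣ charDegree (χ : M.G → ℂ)) :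
    EvAt 47 M.G := by
  have : Fact (Nat.Prime 47) := ⟨by norm_num⟩
  have hB : Spor.IsoB M.G := ⟨Cfsg.Agent.BM.KHAll.iso.symm⟩
  have hs : IsSimpleGroup Spor.BabyMonster := Cfsg.Agent.S1704.result.1
  have hnt : Nontrivial M.G := BM.KHAll.iso.toEquiv.symm.nontrivial
  have hs' : IsSimpleGroup M.G := IsSimpleGroup.isSimpleGroup_of_surjective BM.KHAll.iso.toMonoidHom BM.KHAll.iso.surjective
  intro I hI
  obtain ⟨x, hx⟩ := exists_prime_orderOf_dvd_card' (G := M.G) 47 (by
    rw [BabyM.Instance.all.card_G]; norm_num)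
  obtain ⟨χ, h1, h2⟩ := h
  have hcx := H954.DR.CentB.cent47 hB hx
  have cz : centralizer ((zpowers x : Subgroup M.G) : Set M.G) = centralizer ({x} : Set M.G) := by
    rw [Subgroup.zpowers_eq_closure, Subgroup.centralizer_closure]
  refine ⟨χ, Cfsg.Agent.H684.Principal.mem_of_not_dvd hI (U := zpowers x) ?_ ?_ χ h2, h1⟩
  · exact IsPGroup.of_card (n := 1) (by rw [Nat.card_zpowers, hx, pow_one])
  · exact IsPGroup.of_card (n := 1) (by rw [cz, hcx, pow_one])

theorem ev_of (h : ∃ χ : IrrCharacter M.G, 2 ∣ charDegree (χ : M.G → ℂ) ∧ ¬ 47 ∣ charDegree (χ : M.G → ℂ)) :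
    Ev M.G := by
  intro p hp hp2 hd
  rw [BabyM.Instance.all.card_G] at hd
  have h0 := mem_ps hp hd
  unfold ps at h0
  simp only [List.mem_cons, List.not_mem_nil, or_false] at h0
  have hf : Fact p.Prime := ⟨hp⟩
  rcases h0 with rfl | rfl | rfl | rfl | rfl | rfl | rfl | rfl | rfl | rfl | rfl
  · exact absurd rfl hp2
  · exact perm (by norm_num) (by norm_num)
  · exact perm (by norm_num) (by norm_num)
  · exact seven
  · exact real hp2 (n := 4154781481226426191177580544000000 / 11) (by norm_num) (by norm_num) H711.BabyReal.eleven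
  · exact real hp2 (n := 4154781481226426191177580544000000 / 13) (by norm_num) (by norm_num) H711.BabyReal.thirteen
  · exact real hp2 (n := 4154781481226426191177580544000000 / 17) (by norm_num) (by norm_num) H711.BabyReal.seventeen
  · exact real hp2 (n := 4154781481226426191177580544000000 / 19) (by norm_num) (by norm_num) H711.BabyReal.nineteen
  · exact perm (by norm_num) (by norm_num)
  · exact perm (by norm_num) (by norm_num)
  · exact fortyseven h

end Cfsg.Agent.H471.EP.B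

namespace Cfsg.Agent.H471.EP

open Cfsg Cfsg.Agent.H892.EP

/-- **The row `B`**, from a character of even degree prime to 47. -/
theorem row_b_of (h : ∃ χ : IrrCharacter Cfsg.Agent.BabyM.Inst.M.G,
    2 ∣ charDegree (χ : Cfsg.Agent.BabyM.Inst.M.G → ℂ) ∧ ¬ 47 ∣ charDegree (χ : Cfsg.Agent.BabyM.Inst.M.G → ℂ)) :
    SpRow fun K => Cfsg.Spor.IsoB K := by
  intro K _ _ _ hK
  obtain ⟨e⟩ := hK
  exact Ev.tr (Cfsg.Agent.BM.KHAll.iso.symm.trans e.symm) (B.ev_of h)

end Cfsg.Agent.H471.EP
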