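import Cfsg.Agent.H471.EP.B
import Cfsg.Agent.H360.EP.BlockB
import Cfsg.Agent.Blocks.ExistsModular

/-!
# S4929, TEAM EVP: the row `B` (helper471)

The character of even degree prime to 47 is a member of the 2-block of `H360.EP.BlockB`.
-/

set_option autoImplicit false

namespace Cfsg.Agent.H471.EP

open Cfsg Cfsg.Agent.H892.EP Cfsg.Agent.BabyM.Inst

theorem exists_even_fortyseven : ∃ χ : IrrCharacter M.G,
    2 ∣ charDegree (χ : M.G → ℂ) ∧ ¬ 47 ∣ charDegree (χ : M.G → ℂ) := by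
  have hB : Spor.IsoB M.G := ⟨Cfsg.Agent.BM.KHAll.iso.symm⟩
  have hs : IsSimpleGroup Spor.BabyMonster := Cfsg.Agent.S1704.result.1
  have hnt : Nontrivial M.G := BM.KHAll.iso.toEquiv.symm.nontrivial
  have hs' : IsSimpleGroup M.G :=
    IsSimpleGroup.isSimpleGroup_of_surjective BM.KHAll.iso.toMonoidHom BM.KHAll.iso.surjective
  have : Fact (Nat.Prime 13) := ⟨by norm_num⟩
  obtain ⟨x, hx⟩ := exists_prime_orderOf_dvd_card' (G := M.G) 13 (by
    rw [BabyM.Instance.all.card_G]; norm_num)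
  obtain ⟨I, hI⟩ := Cfsg.Agent.Blocks.ExistsModular.exists_isPModular Nat.prime_two
  obtain ⟨χ, h1, h2, -⟩ := Cfsg.Agent.H360.EP.blockB hB hx hI
  refine ⟨χ, dvd_trans (by norm_num) h2, fun h => ?_⟩
  have h3 : 47 ∣ Nat.gcd (charDegree (χ : M.G → ℂ)) 4371 := Nat.dvd_gcd h (by norm_num)
  rw [h1] at h3
  omega

/-- **The row `B`.** -/
theorem row_b : SpRow fun K => Cfsg.Spor.IsoB K := row_b_of exists_even_fortyseven

end Cfsg.Agent.H471.EP
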