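import Cfsg.Agent.H101.PQ.MHecke
import Cfsg.Agent.H436.MonRealAll
import Cfsg.Agent.H892.EP.Rows

/-!
# S4929, TEAM EVP: the Monster, the primes `p ≠ 23, 31, 47` (helper471)

`|M| = 2^46 3^20 5^9 7^6 11^2 13^3 17 19 23 29 31 41 47 59 71`.

* `p = 3, 5, 7, 11, 13, 29, 59, 71`: a constituent of even degree of the permutation character on the axes (helper101);
* `p = 17, 19, 41`: cyclic Sylow subgroups and real elements.
-/

set_option autoImplicit false
set_option maxRecDepth 100000

namespace Cfsg.Agent.H471.EP.MEasy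

open Cfsg Cfsg.Agent.MonsterX.InstData Cfsg.Agent.Characters.Core Cfsg.Agent.H892.EP Cfsg.Agent.H317.PQ
open Cfsg.Agent.H101.PQ.MHecke

/-- The prime divisors of a factored number. -/
theorem prime_mem {p N : ℕ} (hp : p.Prime) {L : List (ℕ × ℕ)}
    (hL : (L.all fun pa => Nat.Prime pa.1) = true) (hLN : (L.map fun pa => pa.1 ^ pa.2).prod = N) (hd : p ∣ N) :
    p ∈ L.map Prod.fst := by
  subst hLN
  induction L with
  | nil =>
    rw [List.map_nil, List.prod_nil] at hd
    exact absurd (Nat.dvd_one.1 hd) hp.one_lt.ne'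
  | cons a L ih =>
    rw [List.all_cons, Bool.and_eq_true, decide_eq_true_eq] at hL
    rw [List.map_cons, List.mem_cons]
    rw [List.map_cons, List.prod_cons] at hd
    rcases (Nat.Prime.dvd_mul hp).1 hd with h | h
    · exact .inl ((Nat.prime_dvd_prime_iff_eq hp hL.1).1 (hp.dvd_of_dvd_pow h))
    · exact .inr (ih hL.2 h)

theorem of_mem {p d : ℕ} (hd : 2 ∣ d) (h : ∃ χ : IrrCharacter ↥M.G, charDegree (χ : ↥M.G → ℂ) = d ∧ χ ∈ B0 p ↥M.G) :
    EvAt p ↥M.G := by
  obtain ⟨χ, h1, h2⟩ := h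
  intro I hI
  exact ⟨χ, h2 I hI, by rw [h1]; exact hd⟩

theorem cyc {r : ℕ} [Fact r.Prime] {n : ℕ} (hn : Nat.card ↥M.G = r * n) (hr : n % r ≠ 0)
    (P : Sylow r ↥M.G) : IsCyclic (P : Subgroup ↥M.G) := by
  have hrp : r.Prime := Fact.out
  refine isCyclic_of_prime_card (p := r) ?_
  rw [Sylow.card_eq_multiplicity, hn, Nat.factorization_mul hrp.ne_zero (fun h => by simp [h] at hr),
    Finsupp.add_apply, hrp.factorization_self, Nat.factorization_eq_zero_of_not_dvd (fun h => hr (Nat.mod_eq_zero_of_dvd h))]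
  norm_num

/-- cyclic Sylow subgroups and a real element -/
theorem real {p : ℕ} (hp : p.Prime) (hp2 : p ≠ 2) {n : ℕ}
    (hn : 808017424794512875886459904961710757005754368000000000 = p * n)
    (hr : n % p ≠ 0) (h : ∃ x : ↥M.G, p ∣ orderOf x ∧ IsConj x x⁻¹) : EvAt p ↥M.G := by
  have : Fact p.Prime := ⟨hp⟩
  obtain ⟨x, h1, h2⟩ := h
  obtain ⟨k, hk⟩ := h1
  have hx0 : 0 < orderOf x := orderOf_pos x
  have hk0 : k ≠ 0 := by
    rintro rfl
    omega
  have ho : orderOf (x ^ k) = p := by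
    rw [orderOf_pow_of_dvd hk0 ⟨p, by rw [hk, mul_comm]⟩, hk, Nat.mul_div_cancel _ (Nat.pos_of_ne_zero hk0)]
  refine evAt_of_real_cyclic hp2 (cyc (n := n) (by rw [← hn]; exact card_G) hr) ho ?_
  obtain ⟨c, hc⟩ := isConj_iff.1 h2
  exact isConj_iff.2 ⟨c, by rw [← conj_pow, hc, inv_pow]⟩

theorem model {p : ℕ} (hp : p.Prime) (hp2 : p ≠ 2) (h23 : p ≠ 23) (h31 : p ≠ 31) (h47 : p ≠ 47)
    (hd : p ∣ Nat.card ↥M.G) : EvAt p ↥M.G := by
  rw [card_G] at hd
  have h0 := prime_mem hp
    (L := [(2, 46), (3, 20), (5, 9), (7, 6), (11, 2), (13, 3), (17, 1), (19, 1), (23, 1), (29, 1), (31, 1), (41, 1),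
      (47, 1), (59, 1), (71, 1)])
    (by norm_num) (N := 808017424794512875886459904961710757005754368000000000) (by decide +kernel) hd
  simp only [List.map_cons, List.map_nil, List.mem_cons, List.not_mem_nil, or_false] at h0
  rcases h0 with rfl | rfl | rfl | rfl | rfl | rfl | rfl | rfl | rfl | rfl | rfl | rfl | rfl | rfl | rfl
  · exact absurd rfl hp2
  · exact of_mem (by norm_num) mem_3_842609326
  · exact of_mem (by norm_num) mem_5_842609326
  · exact of_mem (by norm_num) mem_7_18538750076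
  · exact of_mem (by norm_num) mem_11_251098487132187500
  · exact of_mem (by norm_num) mem_13_1109944460516150
  · exact real hp hp2 (n := 808017424794512875886459904961710757005754368000000000 / 17) (by norm_num) (by norm_num)
      H436.MonRealAll.seventeen
  · exact real hp hp2 (n := 808017424794512875886459904961710757005754368000000000 / 19) (by norm_num) (by norm_num)
      H436.MonRealAll.nineteen
  · exact absurd rfl h23
  · exact of_mem (by norm_num) mem_29_251098487132187500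
  · exact absurd rfl h31
  · exact real hp hp2 (n := 808017424794512875886459904961710757005754368000000000 / 41) (by norm_num) (by norm_num)
      H436.MonRealAll.fortyone
  · exact absurd rfl h47
  · exact of_mem (by norm_num) mem_59_18538750076
  · exact of_mem (by norm_num) mem_71_842609326

end Cfsg.Agent.H471.EP.MEasy

namespace Cfsg.Agent.H471.EP

open Cfsg Cfsg.Agent.H892.EP

universe u

/-- **The Monster, `p ≠ 2, 23, 31, 47`.** -/
theorem evM_easy {K : Type u} [Group K] [Finite K] (h : Spor.IsoM K) {p : ℕ} (hp : p.Prime) (hp2 : p ≠ 2)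
    (h23 : p ≠ 23) (h31 : p ≠ 31) (h47 : p ≠ 47) (hd : p ∣ Nat.card K) : EvAt p K := by
  obtain ⟨e⟩ := h
  obtain ⟨f⟩ := Cfsg.Agent.MonsterP.Equiv.equiv
  have : Fact p.Prime := ⟨hp⟩
  have hfin : Finite ↥Cfsg.Agent.MonsterX.InstData.M.G := Cfsg.Agent.H101.PQ.MHecke.finite_MG
  refine EvAt.tr (e.trans f).symm (MEasy.model hp hp2 h23 h31 h47 ?_)
  rw [← Nat.card_congr (e.trans f).toEquiv]
  exact hd

end Cfsg.Agent.H471.EP
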