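import Cfsg.Agent.H436.PermReg

/-!
# S4929: the principal block part of a permutation character modulo `p` (helper471)

* `reg_congr` : `|X| #(p-regular elements of the stabilizer) ≡ #(p-regular elements of G) T` modulo `p`, where `T` is the
  sum of the degrees of the constituents in the principal `p`-block;
* `dvd_of_dvd` : `p ∣ |X|` gives `p ∣ T`;
* `congr_of_fix` : `|X| ≡ T`, if a `p`-subgroup `P` fixes a point which is fixed by the `p`-regular elements of `C(P)`.
-/

set_option autoImplicit false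

namespace Cfsg.Agent.H471.EP

open Cfsg Subgroup Cfsg.Agent.Blocks Cfsg.Agent.Blocks.Blau Cfsg.Agent.H145.BR Cfsg.Agent.Characters.Core
open Cfsg.Agent.H493.RatB
open scoped ComplexConjugate

universe u v w

open scoped Classical in
/-- the sum of the degrees of the members of the principal block in a family -/
noncomputable def degSum {G : Type u} [Group G] [Finite G] (M : Ideal AlgInt) {ι : Type w} [Fintype ι]
    (χ : ι → IrrCharacter G) : ℕ := 1 + ∑ i, if χ i ∈ principalBlock M G then charDegree (χ i : G → ℂ) else 0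

theorem reg_congr {G : Type u} [Group G] [Finite G] {p : ℕ} [hp : Fact p.Prime] {M : Ideal AlgInt}
    (hM : IsPModular p M) {X : Type v} [Finite X] [MulAction G X] [MulAction.IsPretransitive G X] (x : X)
    {ι : Type w} [Fintype ι] (χ : ι → IrrCharacter G) (hs : ∀ g : G, permC G X g = 1 + ∑ i, (χ i : G → ℂ) g) :
    Nat.card X * H116.RatB0.reg p (MulAction.stabilizer G x) ≡
      H116.RatB0.reg p (⊤ : Subgroup G) * degSum M χ [MOD p] := by
  classical
  have := Fintype.ofFinite G
  have hprime : M.IsPrime := Blocks.Local.isPrime_of_isPModular hM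
  let R : ℕ := H116.RatB0.reg p (⊤ : Subgroup G)
  have hRe : (R : ℂ) = (Nat.card {x : G // ¬ p ∣ orderOf x} : ℂ) := by
    show ((H116.RatB0.reg p (⊤ : Subgroup G) : ℕ) : ℂ) = _
    rw [H116.RatB0.reg_top]
  -- the sum over the `p`-regular elements
  have hsum : ((Nat.card X * H116.RatB0.reg p (MulAction.stabilizer G x) : ℕ) : ℂ) =
      R + ∑ i, ∑ g : G, regPart p (χ i : G → ℂ) g := by
    rw [← sum_regPart_permC x p, Finset.sum_comm]
    have h1 : ∀ g : G, regPart p (permC G X) g = (if ¬ p ∣ orderOf g then 1 else 0) +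
        ∑ i, regPart p (χ i : G → ℂ) g := by
      intro g
      by_cases hg : p ∣ orderOf g
      · rw [regPart_of_dvd hg, Finset.sum_eq_zero, if_neg (not_not.2 hg), add_zero]
        intro i _
        rw [regPart_of_dvd hg]
      · rw [regPart_of_not_dvd hg, hs, if_pos hg]
        congr 1
        refine Finset.sum_congr rfl fun i _ => ?_
        rw [regPart_of_not_dvd hg]
    rw [Finset.sum_congr rfl fun g _ => h1 g, Finset.sum_add_distrib]
    congr 1
    rw [Finset.sum_boole, hRe, Nat.card_eq_fintype_card, Fintype.card_subtype]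
  -- congruence for the members of the principal block
  have hmem : ∀ i, MemLocalIdeal M (∑ g : G, regPart p (χ i : G → ℂ) g -
      (R : ℂ) * (if χ i ∈ principalBlock M G then charDegree (χ i : G → ℂ) else 0 : ℕ)) := by
    intro i
    by_cases hχ : χ i ∈ principalBlock M G
    · rw [if_pos hχ]
      have h1 := pair_div_sub_pair_div hM (H893.Sd.one G).2 (χ i).2 (isIrr_isCharacter (H893.Sd.one G).2) hχ
      have h3 : pair p ((H893.Sd.one G : IrrCharacter G) : G → ℂ) ((H893.Sd.one G : IrrCharacter G) : G → ℂ) =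
        (Nat.card {x : G // ¬ p ∣ orderOf x} : ℂ) := H893.Sd.pair_one_one p
      have h4 : ((H893.Sd.one G : IrrCharacter G) : G → ℂ) 1 = 1 := rfl
      have h5 : pair p (χ i : G → ℂ) ((H893.Sd.one G : IrrCharacter G) : G → ℂ) = ∑ g : G, regPart p (χ i : G → ℂ) g :=
        H893.Sd.pair_one p _
      have hd0 : (charDegree (χ i : G → ℂ) : ℂ) ≠ 0 := by
        exact_mod_cast (Blocks.Basic.charDegree_pos (χ i).2).ne'
      rw [h3, h4, h5, div_one, ← hRe, Blocks.Basic.irr_one_eq_charDegree (χ i).2] at h1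
      have h6 := Blocks.LocalRing.memLocalIdeal_mul_left hM
        (Blocks.LocalRing.memLocalRing_natCast hM (charDegree (χ i : G → ℂ))) ((Blocks.LocalRing.memLocalIdeal_sub_comm).1 h1)
      have h7 : (charDegree (χ i : G → ℂ) : ℂ) * (∑ g : G, regPart p (χ i : G → ℂ) g / (charDegree (χ i : G → ℂ) : ℂ) - R) =
          ∑ g : G, regPart p (χ i : G → ℂ) g - (R : ℂ) * charDegree (χ i : G → ℂ) := by
        rw [← Finset.sum_div]
        field_simp
      rw [← Finset.sum_div] at h7
      rw [h7] at h6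
      exact h6
    · rw [if_neg hχ, Nat.cast_zero, mul_zero, sub_zero]
      have h1 : ∑ g : G, regPart p (χ i : G → ℂ) g = 0 := by
        by_contra hne
        exact hχ ((H893.Sd.mem_iff hM (χ i)).2 hne)
      rw [h1]
      exact Blocks.LocalRing.memLocalIdeal_zero hM
  have h2 := Blocks.LocalRing.memLocalIdeal_sum hM Finset.univ
    (fun i => ∑ g : G, regPart p (χ i : G → ℂ) g -
      (R : ℂ) * (if χ i ∈ principalBlock M G then charDegree (χ i : G → ℂ) else 0 : ℕ)) fun i _ => hmem i
  have h3 : MemLocalIdeal M ((((Nat.card X * H116.RatB0.reg p (MulAction.stabilizer G x) : ℕ) : ℤ) -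
      ((R * degSum M χ : ℕ) : ℤ) : ℤ) : ℂ) := by
    have e : ((((Nat.card X * H116.RatB0.reg p (MulAction.stabilizer G x) : ℕ) : ℤ) -
        ((R * degSum M χ : ℕ) : ℤ) : ℤ) : ℂ) = ((Nat.card X * H116.RatB0.reg p (MulAction.stabilizer G x) : ℕ) : ℂ) -
        ((R * degSum M χ : ℕ) : ℂ) := by push_cast; ring
    rw [e, hsum]
    convert h2 using 1
    unfold degSum
    rw [Finset.sum_sub_distrib, ← Finset.mul_sum]
    push_cast
    ring
  rw [Blocks.Local.memLocalIdeal_intCast_iff hM] at h3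
  exact ((Nat.modEq_iff_dvd).2 h3).symm

variable {G : Type u} [Group G] [Finite G] {p : ℕ} [hp : Fact p.Prime]

theorem not_dvd_reg : ¬ p ∣ H116.RatB0.reg p (⊤ : Subgroup G) := by
  rw [H116.RatB0.reg_top]
  exact Blocks.RegularCount.not_dvd_card_regular

/-- **`p ∣ |X|` gives `p ∣ T`.** -/
theorem dvd_of_dvd {M : Ideal AlgInt} (hM : IsPModular p M) {X : Type v} [Finite X] [Nonempty X] [MulAction G X]
    [MulAction.IsPretransitive G X] {ι : Type w} [Fintype ι] (χ : ι → IrrCharacter G)
    (hs : ∀ g : G, permC G X g = 1 + ∑ i, (χ i : G → ℂ) g) (hX : p ∣ Nat.card X) : p ∣ degSum M χ := by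
  obtain ⟨x⟩ : Nonempty X := inferInstance
  have h1 := reg_congr hM x χ hs
  have h2 : p ∣ H116.RatB0.reg p (⊤ : Subgroup G) * degSum M χ :=
    (h1.dvd_iff dvd_rfl).1 (hX.mul_right _)
  exact (hp.out.dvd_mul.1 h2).resolve_left not_dvd_reg

/-- **`|X| ≡ T`.** -/
theorem congr_of_fix {M : Ideal AlgInt} (hM : IsPModular p M) {X : Type v} [Finite X] [MulAction G X]
    [MulAction.IsPretransitive G X] {ι : Type w} [Fintype ι] (χ : ι → IrrCharacter G)
    (hs : ∀ g : G, permC G X g = 1 + ∑ i, (χ i : G → ℂ) g) {P : Subgroup G} (hP : IsPGroup p P) {x : X}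
    (hx : ∀ u ∈ P, u • x = x) (hc : ∀ g ∈ centralizer (P : Set G), ¬ p ∣ orderOf g → g • x = x) :
    Nat.card X ≡ degSum M χ [MOD p] := by
  have h0 := reg_congr hM x χ hs
  have h1 := H684.BlockQuot.card_modEq hP (fun y => y ∈ MulAction.stabilizer G x ∧ ¬ p ∣ orderOf y)
    (fun u hu y hy => ⟨mul_mem (mul_mem (hx u hu) hy.1) (inv_mem (show u ∈ MulAction.stabilizer G x from hx u hu)), by
      rw [H116.RatB0.orderOf_conj']
      exact hy.2⟩)
  have h2 := H684.BlockQuot.card_modEq hP (fun y => y ∈ (⊤ : Subgroup G) ∧ ¬ p ∣ orderOf y)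
    (fun u hu y hy => ⟨mem_top _, by
      rw [H116.RatB0.orderOf_conj']
      exact hy.2⟩)
  have h3 : Nat.card {y : G // (y ∈ MulAction.stabilizer G x ∧ ¬ p ∣ orderOf y) ∧ y ∈ centralizer (P : Set G)} =
      Nat.card {y : G // (y ∈ (⊤ : Subgroup G) ∧ ¬ p ∣ orderOf y) ∧ y ∈ centralizer (P : Set G)} :=
    Nat.card_congr (Equiv.subtypeEquivRight fun y =>
      ⟨fun h => ⟨⟨mem_top _, h.1.2⟩, h.2⟩, fun h => ⟨⟨hc y h.2 h.1.2, h.1.2⟩, h.2⟩⟩)
  have h4 : H116.RatB0.reg p (MulAction.stabilizer G x) ≡ H116.RatB0.reg p (⊤ : Subgroup G) [MOD p] := by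
    refine h1.trans ?_
    rw [h3]
    exact h2.symm
  have h5 : H116.RatB0.reg p (⊤ : Subgroup G) * Nat.card X ≡ H116.RatB0.reg p (⊤ : Subgroup G) * degSum M χ [MOD p] := by
    refine Nat.ModEq.trans ?_ h0
    rw [mul_comm]
    exact (h4.symm.mul_left _)
  exact Nat.ModEq.cancel_left_of_coprime ((Nat.Prime.coprime_iff_not_dvd hp.out).2 not_dvd_reg) h5

end Cfsg.Agent.H471.EP
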